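import Mathlib

/-!
# Maps to étale separated schemes are insensitive to purely inseparable base change
-/

set_option autoImplicit false
set_option backward.isDefEq.respectTransparency false
set_option backward.isDefEq.respectTransparency.types false

universe u

open CategoryTheory Limits AlgebraicGeometry TensorProduct

namespace GrothLib.PurInsep

/-- Two maps into an unramified scheme agree if they agree after a surjective map. -/
theorem eq_of_comp_surjective {S T D Y : Scheme.{u}} (p : Y ⟶ S) [FormallyUnramified p] [LocallyOfFiniteType p]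
    (d : D ⟶ T) [Surjective d] (a b : T ⟶ Y) (hab : a ≫ p = b ≫ p) (hd : d ≫ a = d ≫ b) : a = b := by
  have hr : Set.range (pullback.lift a b hab) ⊆ Set.range (pullback.diagonal p) := by
    rintro _ ⟨t, rfl⟩
    obtain ⟨x, rfl⟩ := d.surjective t
    refine ⟨(d ≫ a) x, ?_⟩
    have e : (d ≫ a) ≫ pullback.diagonal p = d ≫ pullback.lift a b hab := by
      apply pullback.hom_ext <;> simp [hd]
    rw [← Scheme.Hom.comp_apply, ← Scheme.Hom.comp_apply, e]
  have h := IsOpenImmersion.lift_fac (pullback.diagonal p) (pullback.lift a b hab) hr
  have ha := congrArg (· ≫ pullback.fst p p) h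
  have hb := congrArg (· ≫ pullback.snd p p) h
  simp only [Category.assoc, pullback.diagonal_fst, pullback.diagonal_snd, pullback.lift_fst, pullback.lift_snd,
    Category.comp_id] at ha hb
  exact ha.symm.trans hb

/-- Descent of morphisms into unramified schemes along universally injective fpqc maps. -/
theorem existsUnique_desc {S Z Z' Y : Scheme.{u}} (p : Y ⟶ S) [FormallyUnramified p] [LocallyOfFiniteType p]
    (q : Z ⟶ S) (π : Z' ⟶ Z) [Flat π] [Surjective π] [QuasiCompact π] [UniversallyInjective π]
    (h : Z' ⟶ Y) (hh : h ≫ p = π ≫ q) : ∃! g : Z ⟶ Y, π ≫ g = h := by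
  haveI : Surjective (pullback.diagonal π) := (UniversallyInjective.iff_diagonal π).1 inferInstance
  have hcond : pullback.fst π π ≫ h = pullback.snd π π ≫ h := by
    refine eq_of_comp_surjective p (pullback.diagonal π) _ _ ?_ (by simp)
    simp only [Category.assoc, hh, pullback.condition_assoc]
  have key : ∀ {W : Scheme.{u}} (g₁ g₂ : W ⟶ Z'), g₁ ≫ π = g₂ ≫ π → g₁ ≫ h = g₂ ≫ h := by
    intro W g₁ g₂ e
    simpa using congrArg (pullback.lift g₁ g₂ e ≫ ·) hcond
  refine ⟨EffectiveEpi.desc π h key, EffectiveEpi.fac π h key, fun g hg => ?_⟩
  exact EffectiveEpi.uniq π h key g hg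

/-- A purely inseparable field extension gives a universally injective morphism of spectra. -/
theorem universallyInjective_specMap (k k' : Type u) [Field k] [Field k'] [Algebra k k']
    [IsPurelyInseparable k k'] :
    UniversallyInjective (Spec.map (CommRingCat.ofHom (algebraMap k k'))) := by
  rw [UniversallyInjective.iff_diagonal]
  have hj := (PrimeSpectrum.isHomeomorph_comap_of_isPurelyInseparable k k' k').injective
  haveI : Subsingleton (Spec (CommRingCat.of (k' ⊗[k] k'))) := hj.subsingleton
  haveI : Subsingleton ↥(pullback (Spec.map (CommRingCat.ofHom (algebraMap k k')))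
      (Spec.map (CommRingCat.ofHom (algebraMap k k')))) :=
    (pullbackSpecIso k k' k').hom.homeomorph.toEquiv.subsingleton
  exact ⟨fun y => ⟨IsLocalRing.closedPoint k', Subsingleton.elim _ _⟩⟩

/-- Base change along a purely inseparable extension is bijective on maps into an étale scheme. -/
theorem bijective_pullback_map (k k' : Type u) [Field k] [Field k'] [Algebra k k']
    [IsPurelyInseparable k k'] (Z Y : Over (Spec (CommRingCat.of k)))
    [FormallyUnramified Y.hom] [LocallyOfFiniteType Y.hom] :
    Function.Bijective fun g : Z ⟶ Y =>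
      (Over.pullback (Spec.map (CommRingCat.ofHom (algebraMap k k')))).map g := by
  let t := Spec.map (CommRingCat.ofHom (algebraMap k k'))
  haveI := universallyInjective_specMap k k'
  let π := pullback.fst Z.hom t
  haveI : UniversallyInjective π := MorphismProperty.pullback_fst _ _ inferInstance
  have H : ∀ g : Z ⟶ Y, ((Over.pullback t).map g).left ≫ pullback.fst Y.hom t = π ≫ g.left :=
    fun g => pullback.lift_fst _ _ _
  constructor
  · intro g₁ g₂ h
    have h₂ : π ≫ g₁.left = π ≫ g₂.left := by
      rw [← H g₁, ← H g₂]
      exact congrArg (fun v => v.left ≫ pullback.fst Y.hom t) h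
    ext
    exact (cancel_epi π).1 h₂
  · intro v
    obtain ⟨g, hg, -⟩ := existsUnique_desc Y.hom Z.hom π (v.left ≫ pullback.fst Y.hom t) (by
      rw [Category.assoc, pullback.condition]
      erw [Over.w_assoc v t]
      exact (pullback.condition (f := Z.hom) (g := t)).symm)
    refine ⟨Over.homMk g ((cancel_epi π).1 ?_), ?_⟩
    · rw [reassoc_of% hg, pullback.condition]
      erw [Over.w_assoc v t]
      exact (pullback.condition (f := Z.hom) (g := t)).symm
    · ext
      refine pullback.hom_ext ?_ ?_
      · exact (H _).trans hg
      · exact (Over.w ((Over.pullback t).map _)).trans (Over.w v).symm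

end GrothLib.PurInsep
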